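import Cfsg.Agent.H245.O8Refl
import Cfsg.Agent.H769.SpSix
import Cfsg.Agent.StdO8.Gen
import Cfsg.Agent.ClassicalGeometry.SympBasic

/-!
# S5919, task D1: `Sp₆(2)` in `Ω₈⁺(2)` as the stabiliser of a nonsingular vector (helper859)
-/

set_option autoImplicit false

namespace Cfsg.Agent.H859.S62

open Cfsg Matrix
open Cfsg.Agent.StdO8.Model Cfsg.Agent.StdO8.Code Cfsg.Agent.StdO8.Gen
open Cfsg.Agent.H245.O8Refl (v0 q_v0 q_v0_ne orbit_eq card_stab ns_ne)
open Cfsg.Agent.ClassicalGeometry

/-- `Sp₆(2)` -/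
abbrev S6 : Type := ↥(Matrix.symplecticGroup (Fin 3) (ZMod 2))

/-- the natural module -/
abbrev W6 : Type := Fin 3 ⊕ Fin 3 → ZMod 2

/-- the action -/
abbrev mw (g : S6) (v : W6) : W6 := (g : Matrix (Fin 3 ⊕ Fin 3) (Fin 3 ⊕ Fin 3) (ZMod 2)).mulVec v

/-- the embedding of the natural module -/
def io : W6 →ₗ[ZMod 2] V where
  toFun x := Sum.elim (Fin.cons 0 fun i => x (.inl i)) (Fin.cons 0 fun i => x (.inr i))
  map_add' x y := by
    funext i
    rcases i with i | i <;> refine Fin.cases ?_ (fun j => ?_) i <;> simp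
  map_smul' c x := by
    funext i
    rcases i with i | i <;> refine Fin.cases ?_ (fun j => ?_) i <;> simp

/-- the projection -/
def pj : V →ₗ[ZMod 2] W6 where
  toFun v := Sum.elim (fun i => v (.inl i.succ)) (fun i => v (.inr i.succ))
  map_add' x y := by
    funext i
    rcases i with i | i <;> rfl
  map_smul' c x := by
    funext i
    rcases i with i | i <;> rfl

/-- the first hyperbolic pair -/
def ea : V := Pi.single (.inl 0) 1
def eb : V := Pi.single (.inr 0) 1

theorem io_inl_zero (x : W6) : io x (.inl 0) = 0 := rfl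
theorem io_inr_zero (x : W6) : io x (.inr 0) = 0 := rfl
theorem io_inl (x : W6) (i : Fin 3) : io x (.inl i.succ) = x (.inl i) := rfl
theorem io_inr (x : W6) (i : Fin 3) : io x (.inr i.succ) = x (.inr i) := rfl

theorem pj_io (x : W6) : pj (io x) = x := by
  funext i
  rcases i with i | i <;> rfl

theorem v0_eq : v0 = ea + eb := by
  funext i
  revert i
  decide +kernel

theorem decomp (v : V) : v = io (pj v) + v (.inl 0) • ea + v (.inr 0) • eb := by
  funext i
  rcases i with i | i <;> refine Fin.cases ?_ (fun j => ?_) i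
  · simp [ea, eb, io_inl_zero]
  · simp only [Pi.add_apply, Pi.smul_apply, io_inl]
    simp [ea, eb, pj]
  · simp [ea, eb, io_inr_zero]
  · simp only [Pi.add_apply, Pi.smul_apply, io_inr]
    simp [ea, eb, pj]

theorem B_apply (u v : V) : B u v = ∑ i : Fin 4, (u (.inl i) * v (.inr i) + u (.inr i) * v (.inl i)) := by
  rw [B, QuadraticMap.polar, q_apply, q_apply, q_apply, ← Finset.sum_sub_distrib, ← Finset.sum_sub_distrib]
  refine Finset.sum_congr rfl fun i _ => ?_
  simp only [Pi.add_apply]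
  ring

theorem B_io (x y : W6) : B (io x) (io y) = sympForm 3 (ZMod 2) x y := by
  rw [B_apply, Fin.sum_univ_succ, SympBasic.sympForm_eq_sum]
  simp only [io_inl_zero, io_inr_zero, zero_mul, add_zero, zero_add]
  refine Finset.sum_congr rfl fun i _ => ?_
  rw [io_inl, io_inl, io_inr, io_inr]
  generalize x (.inl i) = a
  generalize x (.inr i) = b
  generalize y (.inl i) = c
  generalize y (.inr i) = d
  revert a b c d
  decide

theorem B_io_ea (x : W6) : B (io x) ea = 0 := by
  rw [B_apply, Fin.sum_univ_succ, io_inl_zero, io_inr_zero]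
  simp [ea]

theorem B_io_eb (x : W6) : B (io x) eb = 0 := by
  rw [B_apply, Fin.sum_univ_succ, io_inl_zero, io_inr_zero]
  simp [eb]

theorem B_ea_eb : B ea eb = 1 := by
  rw [B_apply]; decide

theorem B_io_v0 (x : W6) : B (io x) v0 = 0 := by
  rw [v0_eq, B_add_right, B_io_ea, B_io_eb, add_zero]

theorem B_v0 (v : V) : B v v0 = v (.inl 0) + v (.inr 0) := by
  conv_lhs => rw [decomp v]
  rw [B_add_left, B_add_left, B_io_v0, B_smul_left, B_smul_left, v0_eq, B_add_right, B_add_right, B_self, B_self,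
    B_comm eb ea, B_ea_eb]
  ring

theorem q_smul_v0 (c : ZMod 2) : q (c • v0) = c := by
  rcases z2 c with rfl | rfl
  · rw [zero_smul, q_zero]
  · rw [one_smul, q_v0]

/-- the stabiliser -/
abbrev St : Subgroup Om := MulAction.stabilizer Om v0

theorem St_fix (s : St) : ((s : Om) : V ≃ₗ[ZMod 2] V) v0 = v0 := s.2

theorem mem_St {g : Om} : g ∈ St ↔ (g : V ≃ₗ[ZMod 2] V) v0 = v0 := Iff.rfl

theorem perp_form {v : V} (h : B v v0 = 0) : v = io (pj v) + v (.inl 0) • v0 := by
  rw [B_v0] at h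
  have h1 : v (.inr 0) = v (.inl 0) := by
    generalize v (.inr 0) = a at *
    generalize v (.inl 0) = b at *
    revert a b; decide
  conv_lhs => rw [decomp v]
  rw [h1, v0_eq, smul_add, add_assoc]

theorem St_form (s : St) (x : W6) : ∃ c : ZMod 2,
    ((s : Om) : V ≃ₗ[ZMod 2] V) (io x) = io (pj (((s : Om) : V ≃ₗ[ZMod 2] V) (io x))) + c • v0 := by
  refine ⟨_, perp_form ?_⟩
  conv_lhs => rw [← St_fix s]
  rw [O8_B (Om_le (s : Om).2), B_io_v0]

/-- the matrix of the action on `v0^⊥/v0` -/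
noncomputable def Ms (s : St) : Matrix (Fin 3 ⊕ Fin 3) (Fin 3 ⊕ Fin 3) (ZMod 2) :=
  LinearMap.toMatrix' (pj ∘ₗ (((s : Om) : V ≃ₗ[ZMod 2] V) : V →ₗ[ZMod 2] V) ∘ₗ io)

theorem Ms_mulVec (s : St) (x : W6) : Ms s *ᵥ x = pj (((s : Om) : V ≃ₗ[ZMod 2] V) (io x)) := by
  rw [Ms, LinearMap.toMatrix'_mulVec]; rfl

theorem St_form' (s : St) (x : W6) : ∃ c : ZMod 2,
    ((s : Om) : V ≃ₗ[ZMod 2] V) (io x) = io (Ms s *ᵥ x) + c • v0 := by
  obtain ⟨c, hc⟩ := St_form s x
  exact ⟨c, by rw [Ms_mulVec]; exact hc⟩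

theorem pj_v0 : pj v0 = 0 := by
  funext i
  revert i
  decide +kernel

theorem Ms_mem (s : St) : Ms s ∈ Matrix.symplecticGroup (Fin 3) (ZMod 2) := by
  rw [SympBasic.mem_symplecticGroup_iff]
  intro x y
  obtain ⟨c, hc⟩ := St_form' s x
  obtain ⟨d, hd⟩ := St_form' s y
  rw [← B_io, ← B_io, ← O8_B (Om_le (s : Om).2) (io x) (io y), hc, hd, B_add_left, B_add_right, B_add_right, B_smul_left,
    B_smul_right, B_smul_left, B_smul_right, B_io_v0, B_comm v0 (io _), B_io_v0, B_self]
  ring

/-- the projection to `Sp₆(2)` -/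
noncomputable def pm : St →* S6 where
  toFun s := ⟨Ms s, Ms_mem s⟩
  map_one' := by
    apply Subtype.ext
    apply Matrix.mulVec_injective
    funext x
    show Ms 1 *ᵥ x = (1 : Matrix _ _ (ZMod 2)) *ᵥ x
    rw [Ms_mulVec, Matrix.one_mulVec]
    exact pj_io x
  map_mul' s t := by
    apply Subtype.ext
    apply Matrix.mulVec_injective
    funext x
    show Ms (s * t) *ᵥ x = (Ms s * Ms t) *ᵥ x
    obtain ⟨c, hc⟩ := St_form' t x
    rw [← Matrix.mulVec_mulVec, Ms_mulVec, Ms_mulVec s]
    show pj (((s : Om) : V ≃ₗ[ZMod 2] V) (((t : Om) : V ≃ₗ[ZMod 2] V) (io x))) = _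
    rw [hc, map_add, map_smul, St_fix, map_add, map_smul, pj_v0, smul_zero, add_zero]

theorem pm_mulVec (s : St) (x : W6) : ∃ c : ZMod 2,
    ((s : Om) : V ≃ₗ[ZMod 2] V) (io x) = io (mw (pm s) x) + c • v0 := St_form' s x

theorem pm_inj : Function.Injective pm := by
  rw [injective_iff_map_eq_one]
  intro s hs
  have h1 : ∀ x, ((s : Om) : V ≃ₗ[ZMod 2] V) (io x) = io x := by
    intro x
    obtain ⟨c, hc⟩ := pm_mulVec s x
    rw [hs] at hc
    have h2 : mw 1 x = x := Matrix.one_mulVec x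
    rw [h2] at hc
    have h3 := O8_q (Om_le (s : Om).2) (io x)
    rw [hc, q_add, B_smul_right, B_io_v0, mul_zero, add_zero, q_smul_v0] at h3
    have h4 : c = 0 := left_eq_add.1 h3.symm
    rw [hc, h4, zero_smul, add_zero]
  set w := ((s : Om) : V ≃ₗ[ZMod 2] V) ea with hw
  have h2 : pj w = 0 := by
    apply SympBasic.eq_zero_of_forall_sympForm_right
    intro y
    rw [← B_io]
    have h3 : B w (io y) = 0 := by
      rw [← h1 y, hw, O8_B (Om_le (s : Om).2), B_comm, B_io_ea]
    rw [decomp w, B_add_left, B_add_left, B_smul_left, B_smul_left, B_comm ea, B_comm eb, B_io_ea, B_io_eb, mul_zero,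
      mul_zero, add_zero, add_zero] at h3
    exact h3
  have h4 : w (.inl 0) + w (.inr 0) = 1 := by
    rw [← B_v0, hw]
    conv_lhs => rw [← St_fix s]
    rw [O8_B (Om_le (s : Om).2), B_v0]
    decide
  have h5 : w = ea ∨ w = eb := by
    rw [decomp w, h2, map_zero, zero_add]
    rcases z2 (w (.inl 0)) with h6 | h6
    · right
      have h7 : w (.inr 0) = 1 := by rw [h6, zero_add] at h4; exact h4
      rw [h6, h7, zero_smul, one_smul, zero_add]
    · left
      have h7 : w (.inr 0) = 0 := by rw [h6] at h4; exact left_eq_add.1 h4.symm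
      rw [h6, h7, zero_smul, one_smul, add_zero]
  have h0 := St_fix s
  rcases h5 with h5 | h5
  · have h6 : ((s : Om) : V ≃ₗ[ZMod 2] V) eb = eb := by
      have h7 := h0
      rw [v0_eq, map_add, ← hw, h5] at h7
      exact add_left_cancel h7
    apply Subtype.ext
    apply Subtype.ext
    apply LinearEquiv.ext
    intro v
    show ((s : Om) : V ≃ₗ[ZMod 2] V) v = v
    conv_lhs => rw [decomp v]
    rw [map_add, map_add, map_smul, map_smul, h1, h6, ← hw, h5]
    exact (decomp v).symm
  · exfalso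
    apply refl_notMem v0 q_v0_ne
    have h6 : ((s : Om) : V ≃ₗ[ZMod 2] V) eb = ea := by
      have h7 := h0
      rw [v0_eq, map_add, ← hw, h5, add_comm ea eb] at h7
      exact add_left_cancel h7
    have h7 : Cfsg.Agent.LieClassical.OrthCore.refl q v0 q_v0_ne = ((s : Om) : V ≃ₗ[ZMod 2] V) := by
      apply LinearEquiv.ext
      intro v
      rw [Cfsg.Agent.LieClassical.OrthCore.refl_apply, q_v0, inv_one, one_mul, sub_eq]
      conv_rhs => rw [decomp v]
      rw [map_add, map_add, map_smul, map_smul, h1, h6, ← hw, h5]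
      have h8 : QuadraticMap.polar (⇑q) v0 v = v (.inl 0) + v (.inr 0) := by
        rw [← B_v0, B_comm]
      rw [h8]
      have h9 : ∀ (y : V) (a b : ZMod 2), y + a • ea + b • eb + (a + b) • v0 = y + a • eb + b • ea := by
        intro y a b
        rw [v0_eq]
        have h10 : ∀ x : V, x + x = 0 := add_self
        rcases z2 a with rfl | rfl <;> rcases z2 b with rfl | rfl
        · simp
        · simp only [zero_smul, one_smul, zero_add, add_zero]
          have : y + eb + (ea + eb) = y + ea + (eb + eb) := by abel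
          rw [this, h10, add_zero]
        · simp only [zero_smul, one_smul, add_zero]
          have : y + ea + (ea + eb) = y + eb + (ea + ea) := by abel
          rw [this, h10, add_zero]
        · have : (1 : ZMod 2) + 1 = 0 := by decide
          rw [this]
          simp only [zero_smul, one_smul, add_zero]
          abel
      calc v + (v (.inl 0) + v (.inr 0)) • v0
          = (io (pj v) + v (.inl 0) • ea + v (.inr 0) • eb) + (v (.inl 0) + v (.inr 0)) • v0 := by rw [← decomp v]
        _ = _ := h9 _ _ _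
    rw [h7]
    exact (s : Om).2

theorem pm_bij : Function.Bijective pm := by
  have h2 : Nat.card S6 = 1451520 := Cfsg.Agent.H769.SpSix.card_Sp
  have : Finite S6 := Nat.finite_of_card_ne_zero (by rw [h2]; norm_num)
  exact (Nat.bijective_iff_injective_and_card pm).2 ⟨pm_inj, by rw [card_stab, h2]⟩

/-- the equivalence -/
noncomputable def pe : St ≃* S6 := MulEquiv.ofBijective pm pm_bij

/-- `Sp₆(2) → Ω₈⁺(2)` -/
noncomputable def ph : S6 →* Om := St.subtype.comp pe.symm.toMonoidHom

theorem ph_inj : Function.Injective ph := St.subtype_injective.comp pe.symm.injective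

theorem ph_range : ph.range = St := by
  ext g
  constructor
  · rintro ⟨x, rfl⟩
    exact (pe.symm x).2
  · intro hg
    exact ⟨pe ⟨g, hg⟩, by
      show ((pe.symm (pe ⟨g, hg⟩) : St) : Om) = g
      rw [MulEquiv.symm_apply_apply]⟩

theorem ph_pm (s : St) : ph (pm s) = s := by
  show ((pe.symm (pe s) : St) : Om) = s
  rw [MulEquiv.symm_apply_apply]

theorem ph_form (g : S6) (x : W6) : ∃ c : ZMod 2, ((ph g : Om) : V ≃ₗ[ZMod 2] V) (io x) = io (mw g x) + c • v0 := by
  have h := pm_mulVec (pe.symm g) x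
  have h1 : pm (pe.symm g) = g := pe.apply_symm_apply g
  rw [h1] at h
  exact h

theorem ph_v0 (g : S6) : ((ph g : Om) : V ≃ₗ[ZMod 2] V) v0 = v0 := (pe.symm g).2

/-! ### The generation -/

theorem dec17 : dec 17 = v0 := by
  funext i
  revert i
  decide +kernel

/-- the stabiliser of `dec n` -/
abbrev Sn (n : ℕ) : Subgroup Om := MulAction.stabilizer Om (dec n)

/-- condition on `(u, w)` -/
def cond (u w : ℕ) : Bool := ok (u, w) && ((!Bn u 17 && !Bn w 17) || (!Bn u 19 && !Bn w 19))

theorem gen_mem {u w n : ℕ} (h : ok (u, w) = true) (h1 : Bn u n = false) (h2 : Bn w n = false) :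
    gen (u, w) ∈ Sn n := by
  show X (dec u) (dec w) (dec n) = dec n
  rw [X_dec h, xn, h1, h2]
  simp

/-- the reached vectors -/
def chk : List ℕ → List (ℕ × ℕ × ℕ) → List ℕ
  | r, [] => r
  | r, (p, u, w) :: l => if r.contains p && cond u w then chk (xn u w p :: r) l else chk r l

theorem chk_spec (l : List (ℕ × ℕ × ℕ)) : ∀ r : List ℕ,
    (∀ n ∈ r, ∃ h ∈ Sn 17 ⊔ Sn 19, ((h : Om) : V ≃ₗ[ZMod 2] V) (dec 17) = dec n) →
    ∀ n ∈ chk r l, ∃ h ∈ Sn 17 ⊔ Sn 19, ((h : Om) : V ≃ₗ[ZMod 2] V) (dec 17) = dec n := by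
  induction l with
  | nil => intro r hr; exact hr
  | cons a l ih =>
    obtain ⟨p, u, w⟩ := a
    intro r hr
    rw [chk]
    split_ifs with hc
    · apply ih
      intro n hn
      rcases List.mem_cons.1 hn with rfl | hn
      · rw [Bool.and_eq_true] at hc
        obtain ⟨h, hh, hh'⟩ := hr p (by simpa using hc.1)
        have hc2 := hc.2
        rw [cond, Bool.and_eq_true, Bool.or_eq_true, Bool.and_eq_true, Bool.and_eq_true] at hc2
        obtain ⟨hok, h3⟩ := hc2
        refine ⟨gen (u, w) * h, Subgroup.mul_mem _ ?_ hh, ?_⟩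
        · rcases h3 with h3 | h3
          · exact Subgroup.mem_sup_left (gen_mem hok (by simpa using h3.1) (by simpa using h3.2))
          · exact Subgroup.mem_sup_right (gen_mem hok (by simpa using h3.1) (by simpa using h3.2))
        · show X (dec u) (dec w) (((h : Om) : V ≃ₗ[ZMod 2] V) (dec 17)) = _
          rw [hh', X_dec hok]
      · exact hr n hn
    · exact ih r hr

/-- the certificate -/
def steps : List (ℕ × ℕ × ℕ) := [(17, 4, 33), (17, 6, 97), (17, 8, 33), (17, 10, 161), (17, 12, 33), (17, 14, 97),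
  (17, 33, 19), (17, 33, 23), (17, 33, 27), (17, 33, 31), (17, 33, 64), (17, 33, 68), (17, 33, 72), (17, 33, 76), (17,
  33, 83), (17, 33, 87), (17, 33, 91), (17, 33, 95), (17, 33, 128), (17, 33, 132), (17, 33, 136), (17, 33, 140), (17,
  33, 147), (17, 33, 151), (17, 33, 155), (17, 33, 159), (17, 33, 192), (17, 33, 196), (17, 33, 200), (17, 33, 204),
  (17, 33, 211), (17, 33, 215), (17, 33, 219), (17, 33, 223), (17, 37, 66), (17, 37, 70), (17, 37, 74), (17, 37, 78),
  (17, 37, 81), (17, 37, 85), (17, 37, 89), (17, 37, 93), (17, 37, 194), (17, 37, 198), (17, 37, 202), (17, 37, 206),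
  (17, 37, 209), (17, 37, 213), (17, 37, 217), (17, 37, 221), (17, 41, 130), (17, 41, 134), (17, 41, 138), (17, 41,
  142), (17, 41, 145), (17, 41, 149), (17, 41, 153), (17, 41, 157), (17, 48, 19), (17, 48, 23), (17, 48, 27), (17, 48,
  31), (21, 6, 96), (21, 32, 64), (21, 36, 66), (21, 40, 64), (21, 44, 66), (21, 51, 64), (21, 55, 66), (21, 59, 64),
  (21, 63, 66), (21, 64, 34), (21, 64, 42), (21, 64, 49), (21, 64, 57), (21, 64, 160), (21, 64, 162), (21, 64, 168),
  (21, 64, 170), (21, 64, 177), (21, 64, 179), (21, 64, 185), (21, 64, 187), (21, 66, 38), (21, 66, 46), (21, 66, 53),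
  (21, 66, 61), (21, 66, 164), (21, 66, 166), (21, 66, 172), (21, 66, 174), (21, 66, 181), (21, 66, 183), (21, 66, 189),
  (21, 66, 191), (35, 6, 96), (35, 6, 98), (35, 6, 104), (35, 6, 106), (35, 6, 113), (35, 6, 115), (35, 6, 121), (35, 6,
  123), (35, 6, 224), (35, 6, 226), (35, 6, 232), (35, 6, 234), (35, 6, 241), (35, 6, 243), (35, 6, 249), (35, 6, 251),
  (35, 10, 160), (35, 10, 162), (35, 10, 164), (35, 10, 166), (35, 10, 177), (35, 10, 179), (35, 10, 181), (35, 10,
  183)]

theorem all_reached : ∀ n : Fin 256, qn n.1 = true → n.1 ∈ chk [17] steps := by decide +kernel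

theorem sup_eq_top : Sn 17 ⊔ Sn 19 = ⊤ := by
  rw [eq_top_iff]
  intro g _
  obtain ⟨n, hn, hn'⟩ := dec_surj (((g : Om) : V ≃ₗ[ZMod 2] V) (dec 17))
  have h1 : q (dec n) = 1 := by
    rw [hn', O8_q (Om_le g.2), dec17, q_v0]
  have h2 : qn n = true := by
    rw [q_dec] at h1
    exact cc_eq_one h1
  obtain ⟨h, hh, hh'⟩ := chk_spec steps [17] (fun m hm => by
    rw [List.mem_singleton] at hm
    subst hm
    exact ⟨1, Subgroup.one_mem _, rfl⟩) n (all_reached ⟨n, hn⟩ h2)
  have h3 : h⁻¹ * g ∈ Sn 17 := by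
    rw [MulAction.mem_stabilizer_iff, mul_smul, inv_smul_eq_iff]
    show ((g : Om) : V ≃ₗ[ZMod 2] V) (dec 17) = ((h : Om) : V ≃ₗ[ZMod 2] V) (dec 17)
    rw [hh', hn']
  have h4 := Subgroup.mul_mem _ hh (Subgroup.mem_sup_left (T := Sn 19) h3)
  rwa [mul_inv_cancel_left] at h4

end Cfsg.Agent.H859.S62
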